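import Cfsg.Agent.Lib.RankTwoFusion.Main
import Cfsg.Agent.Lib.Fusion.System.Group
import Cfsg.Prelude.Def_TwoFusion

/-!
# Finite groups of two-rank two without isolated involutions
-/

set_option autoImplicit false
set_option linter.style.haveILetI false

open Subgroup

namespace CfsgLib.RankTwoFusion

open CfsgLib.Fusion

variable {G : Type*} [Group G] [Finite G]

theorem exists_conj_pair (S : Sylow 2 G) {z w : G} (hz : z ^ 2 = 1) (hw : w ^ 2 = 1) (hc : Commute z w) :
    ∃ h : G, h * z * h⁻¹ ∈ S ∧ h * w * h⁻¹ ∈ S := by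
  haveI : Fact (Nat.Prime 2) := ⟨Nat.prime_two⟩
  have hcomm : IsMulCommutative (closure ({z, w} : Set G)) := Subgroup.isMulCommutative_closure (by
    intro a ha b hb
    rcases ha with e | e <;> rcases hb with f | f <;> rw [e, f]
    exacts [hc.eq, hc.eq.symm])
  have hp : IsPGroup 2 (closure ({z, w} : Set G)) := fun x => ⟨1, by
    refine Subtype.ext ?_
    rw [pow_one, Subgroup.coe_pow, Subgroup.coe_one]
    obtain ⟨x, hx⟩ := x
    show x ^ 2 = 1
    induction hx using Subgroup.closure_induction with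
    | mem y hy => rcases hy with e | e <;> rw [e] <;> assumption
    | one => exact one_pow 2
    | mul a c ha hc' h1 h2 =>
      rw [(show Commute a c from congrArg Subtype.val (hcomm.is_comm.comm ⟨a, ha⟩ ⟨c, hc'⟩)).mul_pow, h1, h2,
        one_mul]
    | inv a _ h1 => rw [inv_pow, h1, inv_one]⟩
  obtain ⟨Q, hQ⟩ := hp.exists_le_sylow
  obtain ⟨h, hh⟩ := MulAction.exists_smul_eq G Q S
  refine ⟨h, ?_, ?_⟩ <;>
  · rw [← hh]
    exact Subgroup.mem_map_of_mem _ (hQ (subset_closure (by simp)))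

theorem center_eq_bot (S : Sylow 2 G) (hiso : ∀ z : G, ¬ Cfsg.IsIsolatedInvolution z) :
    (Cfsg.groupFusionSystem (S : Subgroup G)).center = ⊥ := by
  haveI : Fact (Nat.Prime 2) := ⟨Nat.prime_two⟩
  set F := Cfsg.groupFusionSystem (S : Subgroup G)
  have hcS : F.center ≤ S := (isCentral_center (F := F)).1
  by_contra hne
  haveI : Nontrivial F.center := (Subgroup.nontrivial_iff_ne_bot _).2 hne
  obtain ⟨k, hk, hck⟩ := (S.isPGroup'.to_le hcS).nontrivial_iff_card.1 inferInstance
  obtain ⟨⟨z, hzc⟩, hzo⟩ := exists_prime_orderOf_dvd_card' (G := F.center) 2 (hck ▸ dvd_pow_self 2 hk.ne')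
  rw [← Subgroup.orderOf_coe] at hzo
  have hz2 : z ^ 2 = 1 := by rw [← hzo]; exact pow_orderOf_eq_one z
  have hzS := hcS hzc
  have hfix : ∀ h : G, h * z * h⁻¹ ∈ S → h * z * h⁻¹ = z := fun h hh => by
    have hm : IsMap F (zpowers z) (fun x => h * x * h⁻¹) := by
      refine isMap_group_conj (zpowers_le.2 hzS) ?_
      rw [conjBy, MonoidHom.map_zpowers]
      exact zpowers_le.2 hh
    exact center_fixed hm (mem_zpowers z) hzc
  refine hiso z ⟨hzo, fun g hg => ?_⟩
  obtain ⟨h, h1, h2⟩ := exists_conj_pair S hz2 (show (g * z * g⁻¹) ^ 2 = 1 by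
    rw [conj_pow, hz2, mul_one, mul_inv_cancel]) hg
  have e1 := hfix h h1
  have e2 : h * (g * z * g⁻¹) * h⁻¹ = z := by
    have := hfix (h * g) (by rw [show h * g * z * (h * g)⁻¹ = h * (g * z * g⁻¹) * h⁻¹ by group]; exact h2)
    rwa [show h * g * z * (h * g)⁻¹ = h * (g * z * g⁻¹) * h⁻¹ by group] at this
  exact (MulAut.conj h).injective (show (MulAut.conj h) (g * z * g⁻¹) = (MulAut.conj h) z from e2.trans e1.symm)

theorem shape_of_group (h2 : Cfsg.PRankLE 2 2 G) (h1 : ¬ Cfsg.PRankLE 2 1 G)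
    (hiso : ∀ z : G, ¬ Cfsg.IsIsolatedInvolution z) (S : Sylow 2 G) {K : Type*} [Field K] [Fintype K]
    (hK : Fintype.card K = 16) (P₀ : Sylow 2 (Cfsg.PSU 3 K 4)) :
    Shape (S : Subgroup G) (P₀ : Subgroup (Cfsg.PSU 3 K 4)) := by
  haveI : Fact (Nat.Prime 2) := ⟨Nat.prime_two⟩
  refine shape_of_system S.isPGroup' (isSaturated_group S) ?_ ?_ (center_eq_bot S hiso) hK P₀
  · rintro ⟨A, hA, hA2, hc⟩
    have h := h2 (A.map (S : Subgroup G).subtype) ⟨⟨fun a b => by
        obtain ⟨a', ha', hae⟩ := a.2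
        obtain ⟨b', hb', hbe⟩ := b.2
        refine Subtype.ext ?_
        push_cast
        rw [← hae, ← hbe, ← map_mul, ← map_mul,
          show a' * b' = b' * a' from congrArg Subtype.val (hA.is_comm.comm (⟨a', ha'⟩ : A) ⟨b', hb'⟩)]⟩⟩
      (by rintro _ ⟨a, ha, rfl⟩; rw [← map_pow, hA2 a ha, map_one])
    rw [Subgroup.card_map_of_injective (S : Subgroup G).subtype_injective] at h
    have := hc.trans h
    norm_num at this
  · intro hbot
    refine h1 fun A _ hA2 => ?_
    have hA : IsPGroup 2 A := fun x => ⟨1, Subtype.ext (by rw [pow_one]; exact hA2 x x.2)⟩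
    obtain ⟨Q, hQ⟩ := hA.exists_le_sylow
    have hQ1 : Nat.card Q = 1 := by
      rw [show Nat.card Q = Nat.card S from Q.card_eq_multiplicity.trans S.card_eq_multiplicity.symm,
        show (S : Subgroup G) = ⊥ from hbot, Subgroup.card_bot]
    have := Subgroup.card_le_of_le hQ
    rw [hQ1] at this
    exact this.trans (by norm_num)

end CfsgLib.RankTwoFusion
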