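import Cfsg.Agent.Lib.PGroup.TransInvol.RankTwo

/-!
# The Sylow two-subgroup of the unitary group of dimension three over four elements has no outer swap

Its squaring map is an anisotropic quadratic map over the field of four elements, and such a map takes no nonzero
value on a whole fours subgroup, so an automorphism of order two modulo the centre acts trivially on the centre.
-/

set_option autoImplicit false

open Subgroup

namespace CfsgLib.RankTwoFusion

open CfsgLib.TransInvol

variable {T : Type*} [Group T] [Finite T] {F : Type} [Field F] [Finite F] [CharP F 2] {k : MulAut T}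

theorem three_le_fixed {V : Type*} [AddCommGroup V] [Finite V] (h16 : Nat.card V = 16) (h2 : ∀ v : V, v + v = 0)
    (g : V →+ V) (hg : ∀ v, g (g v) = v) :
    ∃ a b : V, g a = a ∧ g b = b ∧ a ≠ 0 ∧ b ≠ 0 ∧ a + b ≠ 0 := by
  classical
  set δ : V →+ V := g + AddMonoidHom.id V with hδ
  have hd : ∀ v, δ v = g v + v := fun v => rfl
  have hle : δ.range ≤ δ.ker := by
    rintro _ ⟨v, rfl⟩
    rw [AddMonoidHom.mem_ker, hd, hd, map_add, hg, add_comm v (g v)]
    exact h2 _
  have hc := δ.ker.card_mul_index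
  rw [AddSubgroup.index_ker, h16] at hc
  have hle' : Nat.card δ.range ≤ Nat.card δ.ker := AddSubgroup.card_le_of_le hle
  have h4 : 4 ≤ Nat.card δ.ker := by nlinarith
  have hfix : ∀ v ∈ δ.ker, g v = v := fun v hv => by
    rw [AddMonoidHom.mem_ker, hd] at hv
    rw [← sub_eq_zero, sub_eq_add_neg, show -v = v from neg_eq_of_add_eq_zero_left (h2 v)]
    exact hv
  obtain ⟨a, ha, ha0⟩ : ∃ a ∈ δ.ker, a ≠ 0 := by
    by_contra h
    push Not at h
    rw [(AddSubgroup.eq_bot_iff_forall _).2 h, AddSubgroup.card_bot] at h4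
    omega
  obtain ⟨b, hb, hb'⟩ : ∃ b ∈ δ.ker, b ∉ ({0, a} : Set V) := by
    by_contra h
    push Not at h
    have := Set.ncard_le_ncard (show (δ.ker : Set V) ⊆ ({0, a} : Set V) from h) (Set.toFinite _)
    rw [Set.ncard_pair (Ne.symm ha0), ← Nat.card_coe_set_eq] at this
    simp only [SetLike.coe_sort_coe] at this
    omega
  simp only [Set.mem_insert_iff, Set.mem_singleton_iff, not_or] at hb'
  refine ⟨a, b, hfix a ha, hfix b hb, ha0, hb'.1, fun h => hb'.2 ?_⟩
  rw [← neg_eq_of_add_eq_zero_right h, neg_eq_of_add_eq_zero_left (h2 a)]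

/-- An automorphism of the group of Suzuki type of order `64` whose square is trivial modulo the centre and which
fixes an involution `z` fixes every involution. -/
theorem no_swap (S : Suz T F k) (hn : S.n = 2) (c : MulAut T) (hc2 : ∀ p, p⁻¹ * c (c p) ∈ center T)
    {z t : T} (hz : z ^ 2 = 1) (hz1 : z ≠ 1) (hcz : c z = z) (ht : t ^ 2 = 1) : c t = t := by
  classical
  obtain ⟨hg, hg1, hg3⟩ := S.g_rel hn
  have h2 : (2 : F) = 0 := CharTwo.two_eq_zero
  obtain ⟨π, hπ, hker, hform⟩ := S.exists_normal_form hn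
  have hF : Nat.card F = 4 := by rw [S.card, hn]; norm_num
  have haniso : ∀ a b : F, a ^ 2 + a * b + (S.g : F) * b ^ 2 = 0 → (a, b) = 0 := by
    intro a b h
    obtain ⟨p, hp⟩ := hπ (Multiplicative.ofAdd (a, b))
    have h1 := hform p
    rw [hp] at h1
    have h3 := S.mem_center_of_sqMap (h1.trans h)
    rw [← hker, MonoidHom.mem_ker, hp] at h3
    exact h3
  by_contra hne
  have hZ : ∀ v : T, v ^ 2 = 1 → ∀ u : T, c u ^ 2 = 1 ↔ u ^ 2 = 1 := fun _ _ u => by
    rw [← map_pow, MulEquiv.map_eq_one_iff]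
  have hker' : π.ker ≤ (π.comp c.toMonoidHom).ker := fun p hp => by
    rw [hker] at hp
    rw [MonoidHom.mem_ker, MonoidHom.comp_apply, ← MonoidHom.mem_ker, hker]
    exact (S.center_iff _).2 ((hZ 1 (one_pow 2) p).2 ((S.center_iff p).1 hp))
  set γ : Multiplicative (F × F) →* Multiplicative (F × F) :=
    π.liftOfSurjective hπ ⟨π.comp c.toMonoidHom, hker'⟩ with hγ
  have hγa : ∀ p, γ (π p) = π (c p) := fun p => by
    simp [hγ, MonoidHom.liftOfRightInverse_comp_apply]
  let g' : (F × F) →+ (F × F) := MonoidHom.toAdditive γ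
  have hV2 : ∀ v : F × F, v + v = 0 := fun v => Prod.ext (CharTwo.add_self_eq_zero _) (CharTwo.add_self_eq_zero _)
  have hgg : ∀ v, g' (g' v) = v := fun v => by
    obtain ⟨p, hp⟩ := hπ (Multiplicative.ofAdd v)
    show Multiplicative.toAdd (γ (γ (Multiplicative.ofAdd v))) = v
    have h1 : π (p⁻¹ * c (c p)) = 1 := by rw [← MonoidHom.mem_ker, hker]; exact hc2 p
    rw [map_mul, map_inv, inv_mul_eq_one] at h1
    rw [← hp, hγa, hγa, ← h1, hp]
    rfl
  obtain ⟨u, v, hu, hv, hu0, hv0, huv⟩ := three_le_fixed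
    (show Nat.card (F × F) = 16 by rw [Nat.card_prod, hF]) hV2 g' hgg
  -- the value on a fixed point is fixed
  have hval : ∀ w : F × F, g' w = w → w ≠ 0 → w.1 ^ 2 + w.1 * w.2 + (S.g : F) * w.2 ^ 2 = S.coord z := by
    intro w hw hw0
    obtain ⟨p, hp⟩ := hπ (Multiplicative.ofAdd w)
    have hq := hform p
    rw [hp] at hq
    have hcp : π (c p) = π p := by
      rw [← hγa, hp]
      exact congrArg Multiplicative.ofAdd hw
    have hfix : c (p ^ 2) = p ^ 2 := by
      have hd : p⁻¹ * c p ∈ center T := by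
        rw [← hker, MonoidHom.mem_ker, map_mul, map_inv, hcp, inv_mul_cancel]
      rw [map_pow, show c p = p * (p⁻¹ * c p) by group,
        (show Commute p (p⁻¹ * c p) from mem_center_iff.1 hd p).mul_pow, (S.center_iff _).1 hd, mul_one]
    -- the only fixed nontrivial involution is `z`
    have hp1 : p ^ 2 ≠ 1 := fun h => hw0 (haniso _ _ (by
      have hq' : S.sqMap p = 0 := by show S.coord (p ^ 2) = 0; rw [h, S.coord_one]
      exact hq.symm.trans hq'))
    have hpz : p ^ 2 = z := by
      by_contra hpz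
      have hzc := (S.center_iff z).2 hz
      have hsc := S.sq_mem p
      have htc := (S.center_iff t).2 ht
      have h0 : ∀ x ∈ center T, x ≠ 1 → S.coord x ^ 3 = 1 := fun x hx hx1 => by
        rcases S.mem_four hn (S.coord x) with e | e | e | e <;> rw [e]
        · exact absurd (S.coord_eq_zero hx e) hx1
        · exact one_pow 3
        · exact hg3
        · rw [← pow_mul, mul_comm 2 3, pow_mul, hg3, one_pow]
      have hinj : ∀ x ∈ center T, ∀ y ∈ center T, S.coord x = S.coord y → x = y := fun x hx y hy h => by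
        rw [← S.ι_coord hx, h, S.ι_coord hy]
      have hquad : ∀ {a b : F}, a ^ 3 = 1 → b ^ 3 = 1 → a ≠ b → a ^ 2 + a * b + b ^ 2 = 0 := fun {a b} ha hb hab =>
        (mul_eq_zero.1 (show (a - b) * (a ^ 2 + a * b + b ^ 2) = 0 by linear_combination ha - hb)).resolve_left
          (sub_ne_zero.2 hab)
      have htz : t ≠ z := fun h => hne (by rw [h, hcz])
      have htp : t ≠ p ^ 2 := fun h => hne (by rw [h, hfix])
      have ht1 : t ≠ 1 := fun h => hne (by rw [h, map_one])
      have e1 := hquad (h0 t htc ht1) (h0 z hzc hz1) (fun h => htz (hinj t htc z hzc h))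
      have e2 := hquad (h0 t htc ht1) (h0 _ hsc hp1) (fun h => htp (hinj t htc _ hsc h))
      have e3 : S.coord t = S.coord z + S.coord (p ^ 2) := by
        have e4 := (mul_eq_zero.1 (show (S.coord z - S.coord (p ^ 2)) * (S.coord t + S.coord z + S.coord (p ^ 2)) = 0 by
          linear_combination e1 - e2)).resolve_left (sub_ne_zero.2 fun h => hpz (hinj _ hsc z hzc h.symm))
        linear_combination e4 - (S.coord z + S.coord (p ^ 2)) * h2
      rw [← S.coord_mul hzc hsc] at e3
      exact hne (by rw [hinj t htc _ (mul_mem hzc hsc) e3, map_mul, hcz, hfix])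
    calc w.1 ^ 2 + w.1 * w.2 + (S.g : F) * w.2 ^ 2 = S.sqMap p := hq.symm
      _ = S.coord z := by show S.coord (p ^ 2) = _; rw [hpz]
  set K := S.coord z with hK
  have hK0 : K ≠ 0 := fun h => hz1 (S.coord_eq_zero ((S.center_iff z).2 hz) h)
  have hA := hval u hu hu0
  have hB := hval v hv hv0
  have hAB := hval (u + v) (by rw [map_add, hu, hv]) huv
  simp only [Prod.fst_add, Prod.snd_add] at hAB
  -- then `g u + v` is singular
  have hw : ((S.g : F) * u.1 + v.1, (S.g : F) * u.2 + v.2) = 0 := haniso _ _ (by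
    linear_combination (S.g : F) * hAB + ((S.g : F) ^ 2 - (S.g : F)) * hA + (1 - (S.g : F)) * hB + K * hg
      + K * h2)
  rw [Prod.mk_eq_zero] at hw
  have hD : (u.1 * v.2 + u.2 * v.1 : F) = K := by
    linear_combination hAB - hA - hB - (u.1 * v.1 + (S.g : F) * u.2 * v.2) * h2 - K * h2
  exact hK0 (by
    linear_combination -hD + u.1 * hw.2 + u.2 * hw.1 - u.1 * u.2 * (S.g : F) * h2)

end CfsgLib.RankTwoFusion
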