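import Mathlib
import Cfsg.Prelude.Def_CaseTheorems

/-!
# An extension of a homocyclic group of rank two by a swap is wreathed
-/

set_option autoImplicit false

open Subgroup

namespace CfsgLib.RankTwoFusion

variable {S : Type*} [Group S]

theorem eq_of_sq {n : ℕ} (hn : 1 ≤ n) {a t g : S} (ha : orderOf a = 2 ^ n) (hat : a ^ 2 ^ (n - 1) = t)
    (hg : g ∈ zpowers a) (hg2 : g ^ 2 = 1) (hg1 : g ≠ 1) : g = t := by
  obtain ⟨i, rfl⟩ := mem_zpowers_iff.1 hg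
  rw [← zpow_natCast (a ^ i), ← zpow_mul, ← orderOf_dvd_iff_zpow_eq_one, ha] at hg2
  rw [ne_eq, ← orderOf_dvd_iff_zpow_eq_one, ha] at hg1
  obtain ⟨m, rfl⟩ : ∃ m, n = m + 1 := ⟨n - 1, by omega⟩
  rw [Nat.add_sub_cancel] at hat
  push_cast [pow_succ] at hg2 hg1
  obtain ⟨c, hc⟩ : (2 : ℤ) ^ m ∣ i := Int.dvd_of_mul_dvd_mul_right two_ne_zero hg2
  obtain ⟨d, hd⟩ : Odd c := by
    rw [← Int.not_even_iff_odd]
    rintro ⟨d, rfl⟩
    exact hg1 ⟨d, by rw [hc]; ring⟩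
  have ht : t ^ (2 : ℤ) = 1 := by
    rw [← hat, ← zpow_natCast, ← zpow_mul, ← orderOf_dvd_iff_zpow_eq_one, ha]
    exact ⟨1, by push_cast; ring⟩
  rw [hc, zpow_mul, show ((2 : ℤ) ^ m) = ((2 ^ m : ℕ) : ℤ) by push_cast; rfl, zpow_natCast, hat, hd,
    zpow_add, zpow_mul, ht, one_zpow, one_mul, zpow_one]

/-- The data of a homocyclic group `T` of rank two inside `S`. -/
structure Homo (T : Subgroup S) (n : ℕ) : Prop where
  two_le : 2 ≤ n
  card : Nat.card T = 2 ^ (2 * n)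
  comm : ∀ x ∈ T, ∀ y ∈ T, x * y = y * x
  root : ∀ v ∈ T, v ^ 2 = 1 → v ≠ 1 → ∃ a ∈ T, orderOf a = 2 ^ n ∧ a ^ 2 ^ (n - 1) = v

variable [Finite S] {T : Subgroup S} {n : ℕ}

/-- A swap on a homocyclic group of rank two makes a wreathed group. -/
theorem Homo.wreathed (h : Homo T n) (hidx : T.index = 2) {x t : S} (hxT : x ∉ T) (htT : t ∈ T)
    (ht : t ^ 2 = 1) (ht1 : t ≠ 1) (hmove : x * t * x⁻¹ ≠ t) : Cfsg.IsWreathed S := by
  have hn : 1 ≤ n := by have := h.two_le; omega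
  haveI := Subgroup.normal_of_index_eq_two hidx
  obtain ⟨a, haT, ha, hat⟩ := h.root t htT ht ht1
  set b := x * a * x⁻¹ with hbdef
  have hbT : b ∈ T := Subgroup.Normal.conj_mem inferInstance a haT x
  have hb : orderOf b = 2 ^ n := by
    rw [hbdef, ← MulAut.conj_apply, MulEquiv.orderOf_eq, ha]
  have hbt : b ^ 2 ^ (n - 1) = x * t * x⁻¹ := by rw [hbdef, conj_pow, hat]
  have hxx : x ^ 2 ∈ T := hidx ▸ T.pow_index_mem x
  have hdis : zpowers a ⊓ zpowers b = ⊥ := by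
    by_contra hne
    haveI : Fact (Nat.Prime 2) := ⟨Nat.prime_two⟩
    have hp : IsPGroup 2 ↥(zpowers a ⊓ zpowers b) := by
      refine IsPGroup.to_le ?_ inf_le_left
      exact IsPGroup.of_card (n := n) (by rw [Nat.card_zpowers, ha])
    haveI := (Subgroup.nontrivial_iff_ne_bot _).2 hne
    obtain ⟨k, hk, hck⟩ := hp.nontrivial_iff_card.1 inferInstance
    obtain ⟨g, hg⟩ := exists_prime_orderOf_dvd_card' (G := ↥(zpowers a ⊓ zpowers b)) 2
      (hck ▸ dvd_pow_self 2 hk.ne')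
    rw [← Subgroup.orderOf_coe, orderOf_eq_prime_iff] at hg
    exact hmove (((eq_of_sq hn hb hbt g.2.2 hg.1 hg.2).symm).trans (eq_of_sq hn ha hat g.2.1 hg.1 hg.2))
  have hswap : x * b * x⁻¹ = a := by
    rw [hbdef, show x * (x * a * x⁻¹) * x⁻¹ = x ^ 2 * a * (x ^ 2)⁻¹ by rw [pow_two]; group, h.comm _ hxx _ haT,
      mul_inv_cancel_right]
  -- every element of `T` is a product
  have hinj : Function.Injective (fun p : zpowers a × zpowers b => (⟨(p.1 : S) * p.2,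
      mul_mem ((zpowers_le.2 haT) p.1.2) ((zpowers_le.2 hbT) p.2.2)⟩ : T)) := fun p q e => by
    have := mul_injective_of_disjoint (disjoint_iff.2 hdis) (congrArg Subtype.val e : (p.1 : S) * p.2 = q.1 * q.2)
    exact this
  have hsurj := hinj.bijective_of_nat_card_le (by
    rw [Nat.card_prod, Nat.card_zpowers, Nat.card_zpowers, ha, hb, h.card, ← pow_add, two_mul])
  obtain ⟨⟨⟨u, hu⟩, ⟨w, hw⟩⟩, huw⟩ := hsurj.2 ⟨x ^ 2, hxx⟩
  replace huw : u * w = x ^ 2 := congrArg Subtype.val huw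
  -- `x ^ 2 = u * w` with `w` the conjugate of `u`
  have hconjA : ∀ v ∈ zpowers a, x * v * x⁻¹ ∈ zpowers b := fun v hv => by
    obtain ⟨i, rfl⟩ := mem_zpowers_iff.1 hv
    exact ⟨i, by rw [hbdef]; exact conj_zpow⟩
  have hconjB : ∀ v ∈ zpowers b, x * v * x⁻¹ ∈ zpowers a := fun v hv => by
    obtain ⟨i, rfl⟩ := mem_zpowers_iff.1 hv
    refine ⟨i, ?_⟩
    show a ^ i = _
    rw [← hswap, conj_zpow]
  have hwu : w = x * u * x⁻¹ := by
    have e : (x * w * x⁻¹) * (x * u * x⁻¹) = u * w := by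
      rw [huw, show (x * w * x⁻¹) * (x * u * x⁻¹) = x * (w * u) * x⁻¹ by group,
        h.comm w ((zpowers_le.2 hbT) hw) u ((zpowers_le.2 haT) hu), huw]
      group
    have := mul_injective_of_disjoint (disjoint_iff.2 hdis)
      (a₁ := (⟨_, hconjB w hw⟩, ⟨_, hconjA u hu⟩)) (a₂ := (⟨u, hu⟩, ⟨w, hw⟩)) e
    exact (congrArg (fun p => (p.2 : S)) this).symm
  set z := x * u⁻¹ with hz
  have hzT : z ∉ T := fun hm => hxT (by
    simpa [hz, mul_assoc] using mul_mem hm ((zpowers_le.2 haT) hu))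
  have hzz : z * z = 1 := by
    rw [hz, show x * u⁻¹ * (x * u⁻¹) = (x * u * x⁻¹)⁻¹ * x ^ 2 * u⁻¹ by group, ← hwu, ← huw,
      h.comm u ((zpowers_le.2 haT) hu) w ((zpowers_le.2 hbT) hw)]
    group
  refine ⟨n, h.two_le, ?_, a, b, z, ha, h.comm a haT b hbT, hdis, ?_, ?_⟩
  · rw [← T.card_mul_index, hidx, h.card, pow_succ]
  · exact orderOf_eq_prime (by rw [pow_two, hzz]) fun e => hzT (e ▸ T.one_mem)
  · rw [hz, show x * u⁻¹ * a * (x * u⁻¹)⁻¹ = x * (u⁻¹ * a * u) * x⁻¹ by group,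
      h.comm u⁻¹ (inv_mem ((zpowers_le.2 haT) hu)) a haT, inv_mul_cancel_right]

end CfsgLib.RankTwoFusion
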