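import Cfsg.Agent.S1237
import Cfsg.Agent.Lib.Perm.SelfCentCyc.Forward
import Cfsg.Agent.Lib.RankTwoFusion.NoSwap
import Cfsg.Agent.Lib.RankTwoFusion.Wreath

/-!
# Two-groups of rank two with a cycle on a fours group

A finite two-group with a central involution `z` and an involution `t` whose centralizer has an automorphism
permuting its three involutions transitively is dihedral, semidihedral, wreathed, homocyclic, or of the type of
the Sylow two-subgroups of the unitary group of dimension three over four elements.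
-/

set_option autoImplicit false

open Subgroup
open scoped commutatorElement

namespace CfsgLib.RankTwoFusion

/-- The conclusion of the rank two theorem for a two-group `S`, given a reference unitary Sylow subgroup `P`. -/
def Shape (S : Type*) [Group S] (P : Type*) [Group P] : Prop :=
  (∃ m : ℕ, 2 ≤ m ∧ Nonempty (S ≃* DihedralGroup m)) ∨ Cfsg.IsQuasiDihedral S ∨ Cfsg.IsWreathed S ∨
    (∃ n : ℕ, 2 ≤ n ∧ Nonempty (S ≃* Multiplicative (ZMod (2 ^ n) × ZMod (2 ^ n)))) ∨ Nonempty (S ≃* P)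

theorem klein_dihedral {R : Type*} [Group R] [Finite R] (h4 : Nat.card R = 4) (hsq : ∀ x : R, x ^ 2 = 1) :
    Nonempty (R ≃* DihedralGroup 2) := by
  haveI : IsKleinFour R := by
    refine ⟨h4, ?_⟩
    have hd : Monoid.exponent R ∣ 2 := Monoid.exponent_dvd_of_forall_pow_eq_one hsq
    rcases (Nat.dvd_prime Nat.prime_two).1 hd with h | h
    · exfalso
      haveI : Nontrivial R := Finite.one_lt_card_iff_nontrivial.1 (by omega)
      obtain ⟨x, hx⟩ := exists_ne (1 : R)
      exact hx (orderOf_eq_one_iff.1 (Nat.dvd_one.1 (h ▸ Monoid.order_dvd_exponent x)))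
    · exact h
  exact IsKleinFour.nonempty_mulEquiv

variable {S : Type*} [Group S] [Finite S]

theorem shape_of_cycle (hS : IsPGroup 2 S) (h2 : Cfsg.PRankLE 2 2 S) {z t : S} (hzc : ∀ s : S, Commute z s)
    (hz : z ^ 2 = 1) (hz1 : z ≠ 1) (ht : t ^ 2 = 1) (ht1 : t ≠ 1) (htz : t ≠ z)
    (hinv : ∀ x : S, Commute x t → x ^ 2 = 1 → x = 1 ∨ x = z ∨ x = t ∨ x = z * t)
    (T : Subgroup S) (hmem : ∀ x : S, x ∈ T ↔ Commute x t) (φ : MulAut T)
    (hφ : ∀ x y : T, x ≠ 1 → x ^ 2 = 1 → y ≠ 1 → y ^ 2 = 1 → ∃ i : ℕ, (φ ^ i) x = y)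
    {F : Type*} [Field F] [Fintype F] (hF : Fintype.card F = 16) (P : Sylow 2 (Cfsg.PSU 3 F 4)) :
    Shape S (P : Subgroup (Cfsg.PSU 3 F 4)) := by
  classical
  haveI : Fact (Nat.Prime 2) := ⟨Nat.prime_two⟩
  have hzT : z ∈ T := (hmem z).2 (hzc t)
  have htT : t ∈ T := (hmem t).2 (Commute.refl t)
  have hTp : IsPGroup 2 T := hS.to_subgroup T
  have hzt : z * t ≠ 1 := fun h => htz (by rw [← mul_left_cancel (h.trans (by rw [← pow_two, hz]) : z * t = z * z)])
  have hE : ∀ x : T, x ^ 2 = 1 ↔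
      x = 1 ∨ x = ⟨z, hzT⟩ ∨ x = ⟨t, htT⟩ ∨ x = ⟨z * t, mul_mem hzT htT⟩ := fun x => by
    constructor
    · intro hx
      rcases hinv x ((hmem _).1 x.2) (by rw [← Subgroup.coe_pow, hx, Subgroup.coe_one]) with h | h | h | h
      · exact Or.inl (Subtype.ext h)
      · exact Or.inr (Or.inl (Subtype.ext h))
      · exact Or.inr (Or.inr (Or.inl (Subtype.ext h)))
      · exact Or.inr (Or.inr (Or.inr (Subtype.ext h)))
    · rintro (rfl | rfl | rfl | rfl)
      · exact one_pow 2
      · exact Subtype.ext hz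
      · exact Subtype.ext ht
      · exact Subtype.ext (by push_cast; rw [(hzc t).mul_pow, hz, ht, one_mul])
  have hfour : Nat.card {x : T // x ^ 2 = 1} = 4 := by
    have : {x : T | x ^ 2 = 1} = {1, ⟨z, hzT⟩, ⟨t, htT⟩, ⟨z * t, mul_mem hzT htT⟩} := Set.ext hE
    rw [show Nat.card {x : T // x ^ 2 = 1} = {x : T | x ^ 2 = 1}.ncard from Nat.card_coe_set_eq _, this]
    have e1 : z * t ≠ z := fun h => ht1 (mul_eq_left.1 h)
    have e2 : z * t ≠ t := fun h => hz1 (mul_eq_right.1 h)
    rw [Set.ncard_insert_of_notMem, Set.ncard_insert_of_notMem, Set.ncard_pair] <;>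
      simp [Subtype.ext_iff, Ne.symm hz1, Ne.symm ht1, Ne.symm hzt, Ne.symm htz, Ne.symm e1, Ne.symm e2]
  have htwo : ∃ x y : T, x ≠ y ∧ x ≠ 1 ∧ x ^ 2 = 1 ∧ y ≠ 1 ∧ y ^ 2 = 1 :=
    ⟨⟨z, hzT⟩, ⟨t, htT⟩, fun h => htz (congrArg Subtype.val h).symm, fun h => hz1 (congrArg Subtype.val h),
      Subtype.ext hz, fun h => ht1 (congrArg Subtype.val h), Subtype.ext ht⟩
  have hrk : Cfsg.PRankLE 2 2 T ∧ ¬ Cfsg.PRankLE 2 1 T := by
    refine ⟨fun A hA hA2 => ?_, fun h => ?_⟩
    · haveI := hA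
      have h := h2 (A.map T.subtype) ⟨⟨fun a b => by
          obtain ⟨a', ha', hae⟩ := a.2
          obtain ⟨b', hb', hbe⟩ := b.2
          refine Subtype.ext ?_
          push_cast
          rw [← hae, ← hbe, ← map_mul, ← map_mul,
            show a' * b' = b' * a' from congrArg Subtype.val (hA.is_comm.comm (⟨a', ha'⟩ : A) ⟨b', hb'⟩)]⟩⟩
        (by rintro _ ⟨a, ha, rfl⟩; rw [← map_pow, hA2 a ha, map_one])
      rwa [Subgroup.card_map_of_injective T.subtype_injective] at h
    · let E : Subgroup T :=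
        { carrier := {x | x ^ 2 = 1}
          one_mem' := one_pow 2
          mul_mem' := fun {a b} (ha : a ^ 2 = 1) (hb : b ^ 2 = 1) => by
            show (a * b) ^ 2 = 1
            have hc : Commute a b := by
              rcases (hE a).1 ha with rfl | rfl | rfl | rfl
              · exact Commute.one_left b
              · exact Subtype.ext (hzc b).eq
              · exact Subtype.ext ((hmem _).1 b.2).eq.symm
              · exact Subtype.ext ((hzc b).mul_left ((hmem _).1 b.2).symm).eq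
            rw [hc.mul_pow, ha, hb, one_mul]
          inv_mem' := fun {a} (ha : a ^ 2 = 1) => by show a⁻¹ ^ 2 = 1; rw [inv_pow, ha, inv_one] }
      have hEc : IsMulCommutative E := ⟨⟨fun a b => Subtype.ext (by
        have hab : (a.1 * b.1) ^ 2 = 1 := (E.mul_mem a.2 b.2)
        rw [pow_two, mul_eq_one_iff_eq_inv, mul_inv_rev] at hab
        rw [show a.1⁻¹ = a.1 from inv_eq_of_mul_eq_one_right (by rw [← pow_two]; exact a.2),
          show b.1⁻¹ = b.1 from inv_eq_of_mul_eq_one_right (by rw [← pow_two]; exact b.2)] at hab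
        exact hab)⟩⟩
      have := h E hEc fun a ha => ha
      rw [show Nat.card E = 4 from hfour] at this
      norm_num at this
  have h1237 := Cfsg.Agent.S1237.result hTp hrk.1 hrk.2 φ (fun s u hs hu => by
    rw [orderOf_eq_prime_iff] at hs hu
    exact hφ s u hs.2 hs.1 hu.2 hu.1) hF P
  by_cases htop : T = ⊤
  · let e : S ≃* T := (Subgroup.topEquiv.symm).trans (MulEquiv.subgroupCongr htop.symm)
    rcases h1237 with ⟨n, hn, ⟨f⟩⟩ | ⟨⟨f⟩⟩
    · rcases eq_or_lt_of_le hn with rfl | hn2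
      · left
        refine ⟨2, le_rfl, ?_⟩
        obtain ⟨g⟩ := klein_dihedral (R := T) (by rw [Nat.card_congr f.toEquiv]; simp) fun x => by
          apply f.injective
          rw [map_pow, map_one]
          exact Multiplicative.toAdd.injective (by
            rw [toAdd_pow, toAdd_one]
            exact (fun w => by rw [two_nsmul]; exact Prod.ext (CharTwo.add_self_eq_zero _) (CharTwo.add_self_eq_zero _) : ∀ w : ZMod 2 × ZMod 2, (2 : ℕ) • w = 0) _)
        exact ⟨e.trans g⟩
      · exact Or.inr (Or.inr (Or.inr (Or.inl ⟨n, hn2, ⟨e.trans f⟩⟩)))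
    · exact Or.inr (Or.inr (Or.inr (Or.inr ⟨e.trans f⟩)))
  -- an element moving `t`
  set N := normalizer (T : Set S) with hN
  haveI := hS.isNilpotent
  have hlt : T < N := (Group.normalizerCondition_of_isNilpotent (G := S)) T (lt_top_iff_ne_top.2 htop)
  obtain ⟨x, hxN, hxT⟩ := SetLike.exists_of_lt hlt
  have himg : ∀ y ∈ N, y ∉ T → y * t * y⁻¹ = z * t := fun y hy hyT => by
    have hm : y * t * y⁻¹ ∈ T := (mem_normalizer_iff.1 hy t).1 htT
    have hsq : (y * t * y⁻¹) ^ 2 = 1 := by rw [conj_pow, ht, mul_one, mul_inv_cancel]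
    rcases hinv _ ((hmem _).1 hm) hsq with h | h | h | h
    · exact absurd (conj_eq_one_iff.1 h) ht1
    · exact absurd (by rw [show t = y⁻¹ * (y * t * y⁻¹) * y by group, h, ← (hzc y⁻¹).eq, inv_mul_cancel_right]) htz
    · exact absurd ((hmem y).2 (by rw [commute_iff_eq]; exact mul_inv_eq_iff_eq_mul.1 h)) hyT
    · exact h
  have hx2 : x * x ∈ T := by
    by_contra hn
    have h1 := himg _ (mul_mem hxN hxN) hn
    have h2' : x * (z * t) * x⁻¹ = z * t := by
      rw [show x * x * t * (x * x)⁻¹ = x * (x * t * x⁻¹) * x⁻¹ by group, himg x hxN hxT] at h1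
      exact h1
    rw [show x * (z * t) * x⁻¹ = (x * z * x⁻¹) * (x * t * x⁻¹) by group, himg x hxN hxT,
      ← (hzc x).eq, mul_inv_cancel_right, ← mul_assoc, ← pow_two z, hz, one_mul] at h2'
    exact hz1 (mul_eq_right.1 h2'.symm)
  have hTN : T ≤ N := le_normalizer
  have hidx : (T.subgroupOf N).index = 2 := by
    rw [Subgroup.index_eq_two_iff]
    refine ⟨⟨x, hxN⟩, fun b => ?_⟩
    simp only [mem_subgroupOf, Subgroup.coe_mul]
    by_cases hb : (b : S) ∈ T
    · exact Or.inr ⟨hb, fun h => hxT ((T.mul_mem_cancel_left hb).1 h)⟩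
    · refine Or.inl ⟨?_, hb⟩
      rw [hmem, commute_iff_eq, ← mul_inv_eq_iff_eq_mul]
      calc (b : S) * x * t * ((b : S) * x)⁻¹ = b * (x * t * x⁻¹) * (b : S)⁻¹ := by group
        _ = z * (b * t * (b : S)⁻¹) := by
          rw [himg x hxN hxT, show (b : S) * (z * t) * (b : S)⁻¹ = (b * z) * t * (b : S)⁻¹ by group, ← (hzc b).eq]
          group
        _ = t := by rw [himg b b.2 hb, ← mul_assoc, ← pow_two, hz, one_mul]
  rcases h1237 with ⟨n, hn, ⟨f⟩⟩ | ⟨⟨f⟩⟩
  rotate_left
  · -- the unitary type has no swap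
    exfalso
    by_cases hab : IsMulCommutative T
    · obtain ⟨m, hm, ⟨g⟩⟩ := CfsgLib.TransInvol.homocyclic_of_transitive hTp
        (fun a b => hab.is_comm.comm a b) hfour fun a b ha ha2 hb hb2 => by
          obtain ⟨i, hi⟩ := hφ a b ha ha2 hb hb2
          exact ⟨φ ^ i, hi⟩
      obtain ⟨-, -, hPs⟩ := Cfsg.Agent.S1141.result (F := F) (n := 2) le_rfl (by rw [hF]; norm_num) P
      obtain ⟨-, -, ⟨a, b, hab'⟩, -⟩ := hPs
      exact hab' (f.symm.injective (by rw [map_mul, map_mul]; exact hab.is_comm.comm _ _))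
    · obtain ⟨K, _, _, _, ψ, D, hn⟩ := CfsgLib.TransInvol.exists_suz_of_transitive hTp hab htwo φ hφ hfour
      let c : MulAut T := Subgroup.normalizerMonoidHom T ⟨x, hxN⟩
      have hc : ∀ p : T, (c p : S) = x * p * x⁻¹ := fun p => rfl
      have h := no_swap D hn c (fun p => by
        have e : p⁻¹ * c (c p) = ⁅p⁻¹, (⟨x * x, hx2⟩ : T)⁆ := Subtype.ext (by
          rw [commutatorElement_def]
          push_cast
          rw [hc, hc]
          group)
        rw [e]; exact D.comm_mem _ _)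
        (z := ⟨z, hzT⟩) (t := ⟨t, htT⟩) (Subtype.ext hz) (fun h => hz1 (congrArg Subtype.val h))
        (Subtype.ext (by rw [hc]; show x * z * x⁻¹ = z; rw [← (hzc x).eq, mul_inv_cancel_right]))
        (Subtype.ext ht)
      have h' : x * t * x⁻¹ = t := (hc ⟨t, htT⟩).symm.trans (congrArg Subtype.val h)
      exact hxT ((hmem x).2 (by rw [commute_iff_eq]; exact mul_inv_eq_iff_eq_mul.1 h'))
  rcases eq_or_lt_of_le hn with rfl | hn2
  · -- a self-centralizing fours group
    have hT4 : Nat.card T = 4 := by rw [Nat.card_congr f.toEquiv]; simp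
    have hto : orderOf t = 2 := orderOf_eq_prime ht ht1
    have hzo : orderOf z = 2 := orderOf_eq_prime hz hz1
    have hc : ∀ y : S, Commute y t → Commute y z → y = 1 ∨ y = t ∨ y = z ∨ y = t * z := fun y hy _ => by
      rcases CfsgLib.Perm.SelfCentCyc.four_list hT4 (t := ⟨t, htT⟩) (s := ⟨z, hzT⟩)
        (by rw [← Subgroup.orderOf_coe]; exact hto) (by rw [← Subgroup.orderOf_coe]; exact hzo)
        (Subtype.ext (hzc t).eq.symm) (fun h => htz (congrArg Subtype.val h).symm) ⟨y, (hmem y).2 hy⟩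
        with h | h | h | h <;> simp [Subtype.ext_iff] at h <;> tauto
    rcases CfsgLib.Perm.SelfCentCyc.two_type hS hto hzo (hzc t).symm htz.symm hc with h | ⟨m, hm, hd⟩ | h
    · exact absurd (Subgroup.eq_top_of_card_eq T (by rw [hT4, h])) htop
    · exact Or.inl ⟨m, by omega, hd⟩
    · exact Or.inr (Or.inl h)
  -- the homocyclic case
  have hTcomm : ∀ a ∈ T, ∀ b ∈ T, a * b = b * a := fun a ha b hb =>
    congrArg Subtype.val (f.injective (by rw [map_mul, map_mul, mul_comm]) :
      (⟨a, ha⟩ : T) * ⟨b, hb⟩ = ⟨b, hb⟩ * ⟨a, ha⟩)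
  have hTcard : Nat.card T = 2 ^ (2 * n) := by
    rw [Nat.card_congr f.toEquiv, Nat.card_congr Multiplicative.toAdd, Nat.card_prod, Nat.card_zmod,
      ← pow_add, two_mul]
  have hroot : ∀ v ∈ T, v ^ 2 = 1 → v ≠ 1 → ∃ a ∈ T, orderOf a = 2 ^ n ∧ a ^ 2 ^ (n - 1) = v := by
    intro v hv hv2 hv1
    set a₀ := f.symm (Multiplicative.ofAdd ((1 : ZMod (2 ^ n)), (0 : ZMod (2 ^ n)))) with ha₀
    have ho : orderOf a₀ = 2 ^ n := by
      rw [ha₀, MulEquiv.orderOf_eq, orderOf_ofAdd_eq_addOrderOf, Prod.addOrderOf, ZMod.addOrderOf_one,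
        addOrderOf_zero, Nat.lcm_one_right]
    have hw1 : a₀ ^ 2 ^ (n - 1) ≠ 1 := fun h => by
      have hd := Nat.le_of_dvd (Nat.two_pow_pos _) (ho ▸ orderOf_dvd_of_pow_eq_one h)
      have := Nat.pow_lt_pow_right (show 1 < 2 by norm_num) (show n - 1 < n by omega)
      omega
    have hw2 : (a₀ ^ 2 ^ (n - 1)) ^ 2 = 1 := by
      rw [← pow_mul, ← pow_succ, Nat.sub_add_cancel hn, ← ho, pow_orderOf_eq_one]
    obtain ⟨i, hi⟩ := hφ _ ⟨v, hv⟩ hw1 hw2 (fun h => hv1 (congrArg Subtype.val h)) (Subtype.ext hv2)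
    refine ⟨((φ ^ i) a₀ : T), SetLike.coe_mem _, ?_, ?_⟩
    · rw [Subgroup.orderOf_coe, MulEquiv.orderOf_eq, ho]
    · rw [← Subgroup.coe_pow, ← map_pow, hi]
  have hmove : ∀ y ∈ N, y ∉ T → y * t * y⁻¹ ≠ t := fun y hy hyT h => hz1 (by
    rw [himg y hy hyT] at h; exact mul_eq_right.1 h)
  have hNtop : N = ⊤ := by
    by_contra hne
    obtain ⟨y, hyM, hyN⟩ := SetLike.exists_of_lt
      ((Group.normalizerCondition_of_isNilpotent (G := S)) N (lt_top_iff_ne_top.2 hne))
    refine hyN ?_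
    set U := T.map (MulAut.conj y).toMonoidHom with hU
    suffices hUT : U = T by
      rw [hN, mem_normalizer_iff]
      intro g
      constructor
      · intro hg; rw [← hUT]; exact ⟨g, hg, rfl⟩
      · intro hg
        rw [← hUT] at hg
        obtain ⟨g', hg', he⟩ := hg
        have : g' = g := by simpa using he
        exact this ▸ hg'
    have hUN : U ≤ N := by
      rintro _ ⟨g, hg, rfl⟩
      exact (mem_normalizer_iff.1 hyM g).1 (hTN hg)
    have hUcard : Nat.card U = Nat.card T := Subgroup.card_map_of_injective (MulAut.conj y).injective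
    by_contra hUT
    obtain ⟨u, huU, huT⟩ : ∃ u ∈ U, u ∉ T := by
      by_contra hle
      push Not at hle
      exact hUT (Subgroup.eq_of_le_of_card_ge hle hUcard.ge)
    have hUidx : (U.subgroupOf N).index = 2 := by
      have h1 := (T.subgroupOf N).card_mul_index
      have h2' := (U.subgroupOf N).card_mul_index
      rw [Nat.card_congr (subgroupOfEquivOfLe hTN).toEquiv, hidx] at h1
      rw [Nat.card_congr (subgroupOfEquivOfLe hUN).toEquiv, hUcard] at h2'
      exact Nat.eq_of_mul_eq_mul_left Nat.card_pos (h2'.trans h1.symm)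
    haveI := Subgroup.normal_of_index_eq_two hUidx
    obtain ⟨a, haT, -, hat⟩ := hroot t htT ht ht1
    have htU : t ∈ U := by
      have h3 := (U.subgroupOf N).pow_index_mem (⟨a, hTN haT⟩ ^ 2 ^ (n - 2) : N)
      rw [hUidx, ← pow_mul, ← pow_succ, show n - 2 + 1 = n - 1 by omega, mem_subgroupOf, Subgroup.coe_pow,
        hat] at h3
      exact h3
    obtain ⟨g, hg, rfl⟩ := huU
    obtain ⟨g', hg', hgt⟩ := htU
    refine hmove _ (hUN ⟨g, hg, rfl⟩) huT ?_
    rw [mul_inv_eq_iff_eq_mul, ← hgt, ← map_mul, ← map_mul, hTcomm g hg g' hg']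
  have hidx' : T.index = 2 := by
    rw [← hidx, ← Subgroup.relIndex, hNtop, Subgroup.relIndex_top_right]
  exact Or.inr (Or.inr (Or.inl (Homo.wreathed ⟨hn2, hTcard, hTcomm, hroot⟩ hidx' hxT htT ht ht1
    (hmove x hxN hxT))))

end CfsgLib.RankTwoFusion
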