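import Cfsg.Agent.Lib.RankTwoFusion.System

/-!
# The shape of a two-group of rank two carrying a saturated fusion system with trivial centre
-/

set_option autoImplicit false
set_option linter.style.haveILetI false

open Subgroup

namespace CfsgLib.RankTwoFusion

open Cfsg (FusionSystem autInducedBy)
open Cfsg.FusionSystem (centralizerIn normalizerIn)
open CfsgLib.Fusion

variable {Ω : Type*} [Group Ω] {S : Subgroup Ω} [Finite S] {F : FusionSystem S}

theorem pRankLE_two (hS : IsPGroup 2 S) (hr : ¬ Cfsg.PRankAtLeast 2 3 S) : Cfsg.PRankLE 2 2 S := by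
  haveI : Fact (Nat.Prime 2) := ⟨Nat.prime_two⟩
  intro A hA hA2
  by_contra h
  refine hr ⟨A, hA, hA2, ?_⟩
  obtain ⟨d, hd⟩ := (hS.to_subgroup A).exists_card_eq
  rw [hd] at h ⊢
  exact Nat.pow_le_pow_right two_pos (by
    by_contra h3
    exact h (Nat.pow_le_pow_right two_pos (by omega)))

theorem shape_of_system (hS : IsPGroup 2 S) (hF : F.IsSaturated 2) (hr : ¬ Cfsg.PRankAtLeast 2 3 S)
    (hne : S ≠ ⊥) (hZ : F.center = ⊥) {K : Type*} [Field K] [Fintype K] (hK : Fintype.card K = 16)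
    (P₀ : Sylow 2 (Cfsg.PSU 3 K 4)) : Shape S (P₀ : Subgroup (Cfsg.PSU 3 K 4)) := by
  classical
  haveI : Fact (Nat.Prime 2) := ⟨Nat.prime_two⟩
  haveI : Nontrivial S := (Subgroup.nontrivial_iff_ne_bot _).2 hne
  haveI := hS.center_nontrivial
  obtain ⟨k, hk, hck⟩ := (hS.to_subgroup (center S)).nontrivial_iff_card.1 inferInstance
  obtain ⟨⟨⟨z, hzS⟩, hzZ⟩, hzo⟩ := exists_prime_orderOf_dvd_card' (G := center S) 2 (hck ▸ dvd_pow_self 2 hk.ne')
  rw [← Subgroup.orderOf_coe, ← Subgroup.orderOf_coe, orderOf_eq_prime_iff] at hzo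
  obtain ⟨hz, hz1⟩ := hzo
  have hzc : ∀ s ∈ S, Commute z s := fun s hs => (congrArg Subtype.val (mem_center_iff.1 hzZ ⟨s, hs⟩)).symm
  obtain ⟨P, hPS, hzP, hPn, α, hα, hαz⟩ := exists_moved hS hF hZ hzS hz1 hzc
  haveI := finite_of_le hPS
  haveI := finite_mulAut (P := P)
  set u := autFun α z with hu
  have huP : u ∈ P := autFun_mem α hzP
  have hinvP : ∀ (β : MulAut P), autFun β z ^ 2 = 1 ∧ autFun β z ≠ 1 ∧ ∀ p ∈ P, Commute (autFun β z) p := by
    intro β
    refine ⟨?_, ?_, fun p hp => ?_⟩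
    · rw [autFun_apply β hzP, ← Subgroup.coe_pow, ← map_pow]
      have : (⟨z, hzP⟩ : P) ^ 2 = 1 := Subtype.ext hz
      rw [this, map_one, Subgroup.coe_one]
    · rw [autFun_apply β hzP]
      intro h
      exact hz1 (congrArg Subtype.val (β.map_eq_one_iff.1 (Subtype.ext h)))
    · obtain ⟨q, hq⟩ := β.surjective ⟨p, hp⟩
      rw [autFun_apply β hzP]
      have := congrArg β (show (⟨z, hzP⟩ : P) * q = q * ⟨z, hzP⟩ from Subtype.ext (hzc q (hPS q.2)).eq)
      rw [map_mul, map_mul, hq] at this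
      exact congrArg Subtype.val this
  obtain ⟨hu2, hu1, huc⟩ := hinvP α
  have hV : ∀ x ∈ P, x ^ 2 = 1 → x = 1 ∨ x = z ∨ x = u ∨ x = z * u := fun x hx hx2 =>
    four_of_rank hS hr hzS (hPS huP) (hPS hx) hz hu2 hx2 (hzc u (hPS huP)) (hzc x (hPS hx)) (huc x hx) hz1 hu1 hαz
  have hcases : ∀ (β : MulAut P) (x : P), (x : Ω) ^ 2 = 1 → (x : Ω) ≠ 1 →
      ((β x : P) : Ω) = z ∨ ((β x : P) : Ω) = u ∨ ((β x : P) : Ω) = z * u := fun β x hx hx1 => by
    rcases hV _ (β x).2 (by rw [← Subgroup.coe_pow, ← map_pow, show x ^ 2 = 1 from Subtype.ext hx, map_one,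
      Subgroup.coe_one]) with h | h
    · exact absurd (congrArg Subtype.val (β.map_eq_one_iff.1 (Subtype.ext h))) hx1
    · exact h
  -- the cycle
  obtain ⟨-, hR⟩ := (isFullyAutomized_iff hS).1 (IsSaturated.automized_receptive hS hF hPn).1
  obtain ⟨β, hβz, hβu⟩ := exists_cycle (M := P) ((F.autGroup P).subtype)
    ((autInducedBy S P).subgroupOf (F.autGroup P)) hR (z := ⟨z, hzP⟩) (u := ⟨u, huP⟩)
    (Subtype.ext (hzc u (hPS huP)).eq) (Subtype.ext hz) (Subtype.ext hu2)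
    (fun h => hz1 (congrArg Subtype.val h)) (fun h => hu1 (congrArg Subtype.val h))
    (fun h => hαz (congrArg Subtype.val h))
    (fun g => (hcases _ ⟨z, hzP⟩ hz hz1).imp (fun h => Subtype.ext h) (Or.imp (fun h => Subtype.ext h) fun h => Subtype.ext h))
    (fun g => (hcases _ ⟨u, huP⟩ hu2 hu1).imp (fun h => Subtype.ext h) (Or.imp (fun h => Subtype.ext h) fun h => Subtype.ext h))
    (fun r hr => by
      obtain ⟨g, hg, hgr⟩ := mem_autInducedBy_iff.1 hr
      refine Subtype.ext ?_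
      have h := hgr z hzP
      rw [autFun_apply _ hzP] at h
      exact h.trans (by rw [← (hzc g hg).eq, mul_inv_cancel_right]))
    (g₀ := ⟨α, hα⟩) (Subtype.ext (autFun_apply α hzP).symm)
  set b := autFun (β : MulAut P) with hb
  have hbm : IsMap F P b := (mem_autGroup_iff hPS).1 β.2
  have hbz : b z = u := (autFun_apply _ hzP).trans (congrArg Subtype.val hβz)
  have hbu : b u = z * u := (autFun_apply _ huP).trans (congrArg Subtype.val hβu)
  -- the fours group
  set V : Subgroup Ω := closure {z, u} with hVdef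
  have hzV : z ∈ V := subset_closure (by simp)
  have huV : u ∈ V := subset_closure (by simp)
  have hVP : V ≤ P := (closure_le _).2 (by rintro x (rfl | rfl) <;> assumption)
  have hVS := hVP.trans hPS
  obtain ⟨W, hVW, hW⟩ := exists_fullyNormalized (F := F) hVS
  obtain ⟨hWa, hWr⟩ := IsSaturated.automized_receptive hS hF hW
  obtain ⟨g, hg, hgimg, -⟩ := exists_map_normalizer hS hWa hWr hVW
  replace hg := hg.mono (le_normalizerIn hVS)
  obtain ⟨gi, hgi, hgi1, hgi2⟩ := hg.exists_inv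
  rw [hgimg] at hgi hgi2
  set w₁ := g z with hw₁
  set w₂ := g u with hw₂
  have hgV : ∀ x ∈ V, g x ∈ W := fun x hx => hgimg ▸ hg.mem_img.2 ⟨x, hx, rfl⟩
  have hw₁W := hgV z hzV
  have hw₂W := hgV u huV
  have hw₃ : g (z * u) = w₁ * w₂ := hg.map_mul hzV huV
  have hbb : b (z * u) = z := by
    rw [hbm.map_mul hzP huP, hbz, hbu, ← mul_assoc, ← (hzc u (hPS huP)).eq, mul_assoc, ← pow_two, hu2, mul_one]
  have hbV : ∀ x ∈ V, b x ∈ V := by
    intro x hx
    have hle : V ≤ (V.comap (MonoidHom.mk' (fun p : P => b p) fun p q => hbm.map_mul p.2 q.2)).map P.subtype := by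
      refine (closure_le _).2 ?_
      rintro y (e | e) <;> rw [e]
      · exact ⟨⟨z, hzP⟩, show b z ∈ V by rw [hbz]; exact huV, rfl⟩
      · exact ⟨⟨u, huP⟩, show b u ∈ V by rw [hbu]; exact mul_mem hzV huV, rfl⟩
    obtain ⟨p, hp, rfl⟩ := hle hx
    exact hp
  set f := g ∘ b ∘ gi with hf
  have hfm : IsMap F W f :=
    (hgi.comp (hbm.mono hVP) fun y hy => (hgi2 y hy).1).comp hg fun y hy => hbV _ (hgi2 y hy).1
  have hf1 : f w₁ = w₂ := by show g (b (gi (g z))) = g u; rw [hgi1 z hzV, hbz]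
  have hf2 : f w₂ = w₁ * w₂ := by show g (b (gi (g u))) = _; rw [hgi1 u huV, hbu, hw₃]
  have hf3 : f (w₁ * w₂) = w₁ := by
    show g (b (gi (w₁ * w₂))) = g z
    rw [← hw₃, hgi1 _ (mul_mem hzV huV), hbb]
  have hfimg : img W f = W := by
    refine eq_of_le_of_card_le hW.1 (fun y hy => ?_) hfm.card_img.ge
    obtain ⟨x, hx, rfl⟩ := hfm.mem_img.1 hy
    exact hgV _ (hbV _ (hgi2 x hx).1)
  obtain ⟨h, hh, hhf⟩ := (isReceptive_iff.1 hWr).2 W f hfm hfimg
  set T := centralizerIn S W with hTdef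
  have hText : T ≤ extSub S W f := centralizerIn_le_extSub
  replace hh := hh.mono (sup_le (le_extSub hfm) hText)
  have hhT : IsMap F T h := hh.mono le_sup_right
  have hhimg : img T h = T := by
    refine eq_of_le_of_card_le inf_le_left (fun y hy => ?_) hhT.card_img.ge
    obtain ⟨x, hx, rfl⟩ := hhT.mem_img.1 hy
    refine ⟨hhT.mem_S hx, mem_centralizer_iff.2 fun w hw => ?_⟩
    obtain ⟨v, hv, rfl⟩ := hfm.mem_img.1 (hfimg.ge hw)
    have := hh.map_commute ((le_sup_left : W ≤ W ⊔ T) hv) ((le_sup_right : T ≤ W ⊔ T) hx)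
      (mem_centralizer_iff.1 hx.2 v hv)
    rw [hhf v hv] at this
    exact this.eq
  set φ := autOf hhT hhimg with hφ
  have hφf : ∀ {x : T}, ((φ x : T) : Ω) = h x := fun {x} => by
    rw [hφ, ← autFun_autOf hhT hhimg x.2, autFun_coe]
  have hVc : IsMulCommutative V := Subgroup.isMulCommutative_closure (by
    rintro p (rfl | rfl) q (rfl | rfl) <;> first | rfl | exact (hzc u (hPS huP)).eq | exact (hzc u (hPS huP)).eq.symm)
  have hVsq : ∀ x ∈ V, x ^ 2 = 1 := by
    intro x hx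
    induction hx using Subgroup.closure_induction with
    | mem y hy => rcases hy with rfl | rfl <;> assumption
    | one => exact one_pow 2
    | mul a c ha hc h1 h2 =>
      rw [(show Commute a c from congrArg Subtype.val (hVc.is_comm.comm ⟨a, ha⟩ ⟨c, hc⟩)).mul_pow, h1, h2, one_mul]
    | inv a _ h1 => rw [inv_pow, h1, inv_one]
  have hWcomm : ∀ x ∈ W, ∀ y ∈ W, Commute x y := by
    intro x hx y hy
    obtain ⟨h1, h2⟩ := hgi2 x hx
    obtain ⟨h3, h4⟩ := hgi2 y hy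
    rw [← h2, ← h4]
    refine hg.map_commute h1 h3 ?_
    exact congrArg Subtype.val (hVc.is_comm.comm ⟨_, h1⟩ ⟨_, h3⟩)
  have hWT : W ≤ T := fun x hx => ⟨hW.1 hx, mem_centralizer_iff.2 fun y hy => (hWcomm y hy x hx).eq⟩
  have hw12 : Commute w₁ w₂ := hWcomm _ hw₁W _ hw₂W
  have hsq : ∀ x ∈ V, x ^ 2 = 1 → g x ^ 2 = 1 := fun x hx h2 => by
    rw [pow_two, ← hg.map_mul hx hx, ← pow_two, h2, hg.map_one]
  have hw₁2 := hsq z hzV hz
  have hw₂2 := hsq u huV hu2
  have hne1 : ∀ x ∈ V, x ≠ 1 → g x ≠ 1 := fun x hx h e => h ((hg.eq_one_iff hx).1 e)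
  have hw₁1 := hne1 z hzV hz1
  have hw₂1 := hne1 u huV hu1
  have hw21 : w₂ ≠ w₁ := fun e => hαz (hg.inj huV hzV e)
  have hfour : ∀ x : T, x ≠ 1 → x ^ 2 = 1 → (x : Ω) = w₁ ∨ (x : Ω) = w₂ ∨ (x : Ω) = w₁ * w₂ := fun x hx hx2 => by
    have hc := fun w (hw : w ∈ W) => (mem_centralizer_iff.1 x.2.2 w hw)
    rcases four_of_rank hS hr (hW.1 hw₁W) (hW.1 hw₂W) x.2.1 hw₁2 hw₂2
      (by rw [← Subgroup.coe_pow, hx2, Subgroup.coe_one]) hw12 (hc _ hw₁W) (hc _ hw₂W) hw₁1 hw₂1 hw21 with h | h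
    · exact absurd (Subtype.ext h) hx
    · exact h
  have hstep : ∀ x : T, (x : Ω) ∈ W → ((φ x : T) : Ω) = f x := fun x hx => by rw [hφf, hhf x hx]
  have htrans : ∀ x y : T, x ≠ 1 → x ^ 2 = 1 → y ≠ 1 → y ^ 2 = 1 → ∃ i : ℕ, (φ ^ i) x = y := by
    intro x y hx hx2 hy hy2
    let a₁ : T := ⟨w₁, hWT hw₁W⟩
    have e1 : ((φ a₁ : T) : Ω) = w₂ := (hstep a₁ hw₁W).trans hf1
    have e2 : ((φ (φ a₁) : T) : Ω) = w₁ * w₂ := by
      rw [hstep _ (by rw [e1]; exact hw₂W), e1, hf2]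
    have e3 : φ (φ (φ a₁)) = a₁ := Subtype.ext (by
      rw [hstep _ (by rw [e2]; exact mul_mem hw₁W hw₂W), e2, hf3])
    have hall : ∀ v : T, v ≠ 1 → v ^ 2 = 1 → v = a₁ ∨ v = φ a₁ ∨ v = φ (φ a₁) := fun v hv hv2 => by
      rcases hfour v hv hv2 with e | e | e
      · exact Or.inl (Subtype.ext e)
      · exact Or.inr (Or.inl (Subtype.ext (e.trans e1.symm)))
      · exact Or.inr (Or.inr (Subtype.ext (e.trans e2.symm)))
    rcases hall x hx hx2 with rfl | rfl | rfl <;> rcases hall y hy hy2 with rfl | rfl | rfl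
    · exact ⟨0, rfl⟩
    · exact ⟨1, by rw [pow_one]⟩
    · exact ⟨2, by rw [pow_two, MulAut.mul_apply]⟩
    · exact ⟨2, by rw [pow_two, MulAut.mul_apply, e3]⟩
    · exact ⟨0, rfl⟩
    · exact ⟨1, by rw [pow_one]⟩
    · exact ⟨1, by rw [pow_one, e3]⟩
    · exact ⟨2, by rw [pow_two, MulAut.mul_apply, e3]⟩
    · exact ⟨0, rfl⟩
  have hzT : z ∈ T := ⟨hzS, mem_centralizer_iff.2 fun w hw => (hzc w (hW.1 hw)).eq.symm⟩
  set zT : T := ⟨z, hzT⟩ with hzT'
  have hzT1 : zT ≠ 1 := fun e => hz1 (congrArg Subtype.val e)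
  have hzT2 : zT ^ 2 = 1 := Subtype.ext hz
  have hzW : z ∈ W := by
    rcases hfour zT hzT1 hzT2 with e | e | e <;> rw [show z = _ from e]
    exacts [hw₁W, hw₂W, mul_mem hw₁W hw₂W]
  set t := ((φ zT : T) : Ω) with ht
  have htne : t ≠ z := fun e => by
    rw [ht, hstep zT hzW] at e
    rcases hfour zT hzT1 hzT2 with h | h | h
    · rw [show ((zT : T) : Ω) = w₁ from h, hf1, show z = w₁ from h] at e; exact hw21 e
    · rw [show ((zT : T) : Ω) = w₂ from h, hf2, show z = w₂ from h] at e; exact hw₁1 (mul_eq_right.1 e)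
    · rw [show ((zT : T) : Ω) = w₁ * w₂ from h, hf3, show z = w₁ * w₂ from h] at e
      exact hw₂1 (mul_eq_left.1 e.symm)
  have htS : t ∈ S := (φ zT).2.1
  have htW : t ∈ W := by
    rcases hfour (φ zT) (fun e => hzT1 (φ.map_eq_one_iff.1 e)) (by rw [← map_pow, hzT2, map_one]) with e | e | e <;>
      rw [ht, e]
    exacts [hw₁W, hw₂W, mul_mem hw₁W hw₂W]
  have ht2 : t ^ 2 = 1 := by rw [ht, ← Subgroup.coe_pow, ← map_pow, hzT2, map_one, Subgroup.coe_one]
  have ht1 : t ≠ 1 := fun e => hzT1 (φ.map_eq_one_iff.1 (Subtype.ext e))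
  set T' : Subgroup S := T.subgroupOf S with hT'
  let e : T' ≃* T := subgroupOfEquivOfLe inf_le_left
  have hmem : ∀ x : S, x ∈ T' ↔ Commute x (⟨t, htS⟩ : S) := fun x => by
    constructor
    · intro hx
      exact Subtype.ext (mem_centralizer_iff.1 hx.2 t htW).symm
    · intro hx
      refine ⟨x.2, mem_centralizer_iff.2 fun w hw => ?_⟩
      -- `W` is generated by `z` and `t`
      have hxt : Commute t (x : Ω) := (congrArg Subtype.val hx.eq).symm
      have hxz : Commute z (x : Ω) := hzc x x.2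
      rcases eq_or_ne w 1 with rfl | hw1
      · rw [one_mul, mul_one]
      have hw2 : w ^ 2 = 1 := by
        obtain ⟨h1, h2⟩ := hgi2 w hw
        rw [← h2]
        exact hsq _ h1 (hVsq _ h1)
      rcases four_of_rank hS hr hzS htS (hW.1 hw) hz ht2 hw2 (hzc t htS) (hzc w (hW.1 hw))
        (hWcomm t htW w hw) hz1 ht1 htne with r | r | r | r
      · exact absurd r hw1
      · rw [r]; exact hxz.eq
      · rw [r]; exact hxt.eq
      · rw [r]; exact (hxz.mul_left hxt).eq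
  have key := shape_of_cycle (z := (⟨z, hzS⟩ : S)) (t := ⟨t, htS⟩) hS (pRankLE_two hS hr)
    (fun s => Subtype.ext (hzc s s.2).eq) (Subtype.ext hz) (fun h => hz1 (congrArg Subtype.val h))
    (Subtype.ext ht2) (fun h => ht1 (congrArg Subtype.val h)) (fun h => htne (congrArg Subtype.val h))
    (fun x hx hx2 => by
      rcases four_of_rank hS hr hzS htS x.2 hz ht2 (congrArg Subtype.val hx2) (hzc t htS) (hzc x x.2)
        (congrArg Subtype.val hx.eq).symm hz1 ht1 htne with r | r | r | r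
      · exact Or.inl (Subtype.ext r)
      · exact Or.inr (Or.inl (Subtype.ext r))
      · exact Or.inr (Or.inr (Or.inl (Subtype.ext r)))
      · exact Or.inr (Or.inr (Or.inr (Subtype.ext r))))
    T' hmem (MulAut.congr e.symm φ) (fun x y hx hx2 hy hy2 => by
      obtain ⟨i, hi⟩ := htrans (e x) (e y) (fun h => hx (e.map_eq_one_iff.1 h)) (by rw [← map_pow, hx2, map_one])
        (fun h => hy (e.map_eq_one_iff.1 h)) (by rw [← map_pow, hy2, map_one])
      refine ⟨i, ?_⟩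
      rw [← map_pow]
      show e.symm ((φ ^ i) (e x)) = y
      rw [hi, MulEquiv.symm_apply_apply]) hK P₀
  exact key

end CfsgLib.RankTwoFusion
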