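import Cfsg.Agent.Lib.RankTwoFusion.Realize
import Cfsg.Agent.Lib.Fusion.System.RealizedNormal
import Cfsg.Agent.Lib.Fusion.System.AbelianSimple
import Cfsg.Agent.Lib.Fusion.System.Components.CoreLemmas

/-!
# Simple saturated systems of rank two and their linear models

A simple system with these Sylow subgroups is realized by a simple, so perfect, group; hence both kinds of
essential subgroup occur and the system is that of `PSL₂` or `PSL₃` over a prime field.
-/

set_option autoImplicit false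
set_option linter.style.haveILetI false

open Subgroup
open scoped commutatorElement

namespace CfsgLib.RankTwoFusion

open Cfsg (FusionSystem)
open CfsgLib.Fusion
open CfsgLib.Fusion.SmallTwo
open CfsgLib.Fusion.MaxClassWitness (pulled pulled_isRealizedBy exists_prime)

universe u

variable {Ω : Type u} [Group Ω] {S : Subgroup Ω} [Finite S] {F : FusionSystem S}

/-- A simple system over a non-abelian group has trivial centre. -/
theorem center_eq_bot_of_simple (hS : IsPGroup 2 S) (h : F.IsSimple 2)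
    (hna : ¬ ∀ a b : S, a * b = b * a) : F.center = ⊥ := by
  haveI : Fact (Nat.Prime 2) := ⟨Nat.prime_two⟩
  rcases h.2.2 _ _ (inner_isNormalIn hS h.1 (Components.isNormal_of_isCentral isCentral_center))
    with h1 | ⟨h1, -⟩
  · exact h1
  · refine absurd (fun a b => Subtype.ext ?_) hna
    exact (Subgroup.mem_centralizer_iff.1 (center_le_centralizer (F := F) (h1.ge b.2)) a a.2)

/-- A simple system over a non-abelian group has no normal subgroup equal to the whole group. -/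
theorem not_normal_of_simple (hS : IsPGroup 2 S) (h : F.IsSimple 2)
    (hna : ¬ ∀ a b : S, a * b = b * a) : ¬ F.IsNormal S := by
  haveI : Fact (Nat.Prime 2) := ⟨Nat.prime_two⟩
  intro hN
  have hinner : ∀ P, F.Hom P = (Cfsg.innerFusionSystem S).Hom P := by
    rcases h.2.2 S _ (inner_isNormalIn hS h.1 hN) with h1 | ⟨-, h1⟩
    · exact absurd h1 h.2.1
    · exact fun P => (h1 P).symm
  set Z := (Subgroup.center S).map S.subtype with hZ
  have hZS : Z ≤ S := Subgroup.map_subtype_le _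
  have hcomm : ∀ u ∈ Z, ∀ v ∈ S, v * u = u * v := by
    rintro _ ⟨u, hu, rfl⟩ v hv
    exact congrArg Subtype.val (Subgroup.mem_center_iff.1 hu ⟨v, hv⟩)
  have hsc : F.StronglyClosed Z := by
    refine stronglyClosed_iff.2 ⟨hZS, fun R f hR hf x hx => ?_⟩
    obtain ⟨s, hs, he⟩ := isInner_iff.2 hinner R f hf
    rw [he x hx, hcomm x (hR hx) s hs, mul_inv_cancel_right]
    exact hR hx
  have hnormal := isNormal_of_stronglyClosed_abelian hS h.1 hsc fun u hu v hv => hcomm v hv u (hZS hu)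
  haveI : Nontrivial S := (Subgroup.nontrivial_iff_ne_bot S).2 h.2.1
  haveI := hS.center_nontrivial
  rcases h.2.2 _ _ (inner_isNormalIn hS h.1 hnormal) with h1 | ⟨h1, -⟩
  · rw [hZ, Subgroup.map_eq_bot_iff_of_injective _ S.subtype_injective] at h1
    exact (Subgroup.nontrivial_iff_ne_bot _).1 inferInstance h1
  · exact hna fun a b => Subtype.ext (hcomm b (h1.ge b.2) a a.2)

/-- A realized system is the pulled back one. -/
theorem eq_pulled_of_isRealizedBy {G : Type*} [Group G] {ι : S →* G} (h : F.IsRealizedBy ι) :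
    F = pulled ι h.1 :=
  eq_of_hom fun P => Set.ext fun φ =>
    ⟨fun hφ => ⟨(F.le_of_mem hφ).1, (F.le_of_mem hφ).2,
        (h.2 P (F.le_of_mem hφ).1 φ (F.le_of_mem hφ).2).1 hφ⟩,
      fun ⟨hP, hφ, hg⟩ => (h.2 _ hP φ hφ).2 hg⟩

/-- A simple realizable system is that of a perfect group. -/
theorem exists_perfect_realization (hS : IsPGroup 2 S) (h : F.IsSimple 2)
    (hna : ¬ ∀ a b : S, a * b = b * a) (hreal : F.IsRealizable 2) :
    ∃ (G : Type u) (_ : Group G) (_ : Finite G) (ι : S →* G) (hι : Function.Injective ι) (T : Sylow 2 G),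
      (T : Subgroup G) = ι.range ∧ commutator G = ⊤ ∧ F = pulled ι hι := by
  haveI : Fact (Nat.Prime 2) := ⟨Nat.prime_two⟩
  obtain ⟨G, hG, hfin, hsimp, ι, hι, T, hT⟩ := RealizedNormal.exists_simple_realization hS h hreal
  push Not at hna
  obtain ⟨a, b, hab⟩ := hna
  refine ⟨G, hG, hfin, ι, hι.1, T, hT, simple_perfect (a := ι a) (b := ι b) ?_,
    eq_pulled_of_isRealizedBy hι⟩
  rw [← map_mul, ← map_mul]
  exact fun e => hab (hι.1 e)

/-! ### The linear groups -/

/-- `PSL₂(q)` with a dihedral Sylow subgroup of prescribed order. -/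
theorem exists_psl_two_dihedral {j : ℕ} (hj : 2 ≤ j) :
    ∃ (q : ℕ) (_ : Fact q.Prime), Odd q ∧ (q % 8 = 1 ∨ q % 8 = 7) ∧
      commutator (Matrix.ProjectiveSpecialLinearGroup (Fin 2) (ZMod q)) = ⊤ ∧
      ∃ T : Sylow 2 (Matrix.ProjectiveSpecialLinearGroup (Fin 2) (ZMod q)),
        Nonempty ((T : Subgroup (Matrix.ProjectiveSpecialLinearGroup (Fin 2) (ZMod q))) ≃* DihedralGroup (2 ^ j)) := by
  obtain ⟨q, hq, hq5, -, u, v, hu, hv, hqu, hqv⟩ := exists_prime (j + 1) (by omega)
  haveI := Fact.mk hq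
  haveI : Fact (Nat.Prime 2) := ⟨Nat.prime_two⟩
  have hodd := odd_card_zmod q hq5
  obtain ⟨P⟩ : Nonempty (Sylow 2 (Matrix.SpecialLinearGroup (Fin 2) (ZMod q))) := inferInstance
  obtain ⟨e⟩ := sylow_iso_of_card hodd P (j := j) (r := q * v * u)
    (by rw [CfsgLib.Classical.card_sl2, ZMod.card, hqu, hqv]; ring)
    (((hq.odd_of_ne_two (by omega)).mul hv).mul hu)
  set π := QuotientGroup.mk' (Subgroup.center (Matrix.SpecialLinearGroup (Fin 2) (ZMod q))) with hπ
  haveI : NeZero (2 ^ j) := ⟨by positivity⟩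
  obtain ⟨T, hT⟩ := sylow_image_dihedral π (QuotientGroup.mk'_surjective _)
    (by rw [hπ, QuotientGroup.ker_mk', card_center_sl_two hodd]) P e
  refine ⟨q, ⟨hq⟩, hq.odd_of_ne_two (by omega), Or.inr ?_, ?_, T, hT⟩
  · obtain ⟨c, hc⟩ : 2 ^ 3 ∣ q + 1 := hqu ▸ (pow_dvd_pow 2 (show 3 ≤ j + 1 by omega)).mul_right u
    omega
  refine top_le_iff.1 ?_
  rw [← MonoidHom.range_eq_top.2 (QuotientGroup.mk'_surjective
    (Subgroup.center (Matrix.SpecialLinearGroup (Fin 2) (ZMod q))))]
  exact range_le_commutator _ (CfsgLib.Classical.sl_perfect_and_psl_simple le_rfl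
    (by rw [ZMod.card]; omega)).1

/-- `PSL₃(q)` with a semidihedral Sylow subgroup of prescribed order. -/
theorem exists_psl_three_semidihedral {k : ℕ} (hk : 3 ≤ k) :
    ∃ (q : ℕ) (_ : Fact q.Prime), Odd q ∧
      commutator (Matrix.ProjectiveSpecialLinearGroup (Fin 3) (ZMod q)) = ⊤ ∧
      ∃ T : Sylow 2 (Matrix.ProjectiveSpecialLinearGroup (Fin 3) (ZMod q)),
        Cfsg.IsQuasiDihedral (T : Subgroup (Matrix.ProjectiveSpecialLinearGroup (Fin 3) (ZMod q))) ∧
        Nat.card (T : Subgroup (Matrix.ProjectiveSpecialLinearGroup (Fin 3) (ZMod q))) = 2 ^ (k + 1) := by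
  classical
  obtain ⟨q, hq, hq5, hq4, u, v, hu, hv, hqu, hqv⟩ := exists_prime (k - 1) (by omega)
  haveI := Fact.mk hq
  haveI : Fact (Nat.Prime 2) := ⟨Nat.prime_two⟩
  have hcF : Fintype.card (ZMod q) = q := ZMod.card q
  obtain ⟨P⟩ : Nonempty (Sylow 2 (GL (Fin 2) (ZMod q))) := inferInstance
  have hP := CfsgLib.Invol.isQuasiDihedral_GL_two P (by rw [hcF]; exact hq4)
  have hcard : Nat.card (P : Subgroup (GL (Fin 2) (ZMod q))) = 2 ^ (k + 1) := by
    refine CfsgLib.Invol.card_sylow_of_eq P (r := q * v * v * u) ?_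
      ((((hq.odd_of_ne_two (by omega)).mul hv).mul hv).mul hu)
    rw [CfsgLib.Classical.card_gl2, hcF, hqu, hqv, show k + 1 = k - 1 + 1 + 1 by omega, pow_succ,
      pow_succ]
    ring
  obtain ⟨T, -, ⟨e⟩⟩ := CfsgLib.PSLThreeTwo.exists_sylow_image (F := ZMod q) (by rw [hcF]; omega) P
  refine ⟨q, ⟨hq⟩, hq.odd_of_ne_two (by omega), psl_three_perfect (by rw [hcF]; omega)
    (by rw [hcF]; omega), T, ?_, by rw [← Nat.card_congr e.toEquiv, hcard]⟩
  obtain ⟨n, hn, hc', x, y, hx, hy, hxy⟩ := hP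
  exact ⟨n, hn, by rw [← Nat.card_congr e.toEquiv, hc'], e x, e y, by rw [MulEquiv.orderOf_eq, hx],
    by rw [MulEquiv.orderOf_eq, hy], by rw [← map_inv, ← map_mul, ← map_mul, hxy, map_pow]⟩

/-- `PSL₃(q)` with a wreathed Sylow subgroup of prescribed order. -/
theorem exists_psl_three_wreathed {n : ℕ} (hn : 2 ≤ n) :
    ∃ (q : ℕ) (_ : Fact q.Prime), Odd q ∧
      commutator (Matrix.ProjectiveSpecialLinearGroup (Fin 3) (ZMod q)) = ⊤ ∧
      ∃ T : Sylow 2 (Matrix.ProjectiveSpecialLinearGroup (Fin 3) (ZMod q)),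
        Cfsg.IsWreathed (T : Subgroup (Matrix.ProjectiveSpecialLinearGroup (Fin 3) (ZMod q))) ∧
        Nat.card (T : Subgroup (Matrix.ProjectiveSpecialLinearGroup (Fin 3) (ZMod q))) = 2 ^ (2 * n + 1) := by
  classical
  obtain ⟨q, hq, hq5, hq4, u, v, hu, hv, hqu, hqv⟩ := exists_prime_one n hn
  haveI := Fact.mk hq
  haveI : Fact (Nat.Prime 2) := ⟨Nat.prime_two⟩
  have hcF : Fintype.card (ZMod q) = q := ZMod.card q
  obtain ⟨P⟩ : Nonempty (Sylow 2 (GL (Fin 2) (ZMod q))) := inferInstance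
  have hP := CfsgLib.Invol.isWreathed_GL_two P (by rw [hcF]; exact hq4)
  have hcard : Nat.card (P : Subgroup (GL (Fin 2) (ZMod q))) = 2 ^ (2 * n + 1) := by
    refine CfsgLib.Invol.card_sylow_of_eq P (r := q * u * u * v) ?_
      ((((hq.odd_of_ne_two (by omega)).mul hu).mul hu).mul hv)
    rw [CfsgLib.Classical.card_gl2, hcF, hqu, hqv, pow_succ, two_mul, pow_add]
    ring
  obtain ⟨T, -, ⟨e⟩⟩ := CfsgLib.PSLThreeTwo.exists_sylow_image (F := ZMod q) (by rw [hcF]; omega) P
  refine ⟨q, ⟨hq⟩, hq.odd_of_ne_two (by omega), psl_three_perfect (by rw [hcF]; omega)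
    (by rw [hcF]; omega), T, ?_, by rw [← Nat.card_congr e.toEquiv, hcard]⟩
  obtain ⟨k, hk, hc', x, y, z, hx, hxy, hdis, hz, hzx⟩ := hP
  refine ⟨k, hk, by rw [← Nat.card_congr e.toEquiv, hc'], e x, e y, e z,
    by rw [MulEquiv.orderOf_eq, hx], by rw [← map_mul, hxy, map_mul], ?_,
    by rw [MulEquiv.orderOf_eq, hz], by rw [← map_inv, ← map_mul, ← map_mul, hzx]⟩
  rw [eq_bot_iff]
  rintro w ⟨hw1, hw2⟩
  obtain ⟨i, hi⟩ := mem_zpowers_iff.1 hw1
  obtain ⟨i', hi'⟩ := mem_zpowers_iff.1 hw2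
  rw [← map_zpow] at hi hi'
  have h : x ^ i ∈ zpowers x ⊓ zpowers y :=
    ⟨zpow_mem (mem_zpowers x) i, mem_zpowers_iff.2 ⟨i', e.injective (hi'.trans hi.symm)⟩⟩
  rw [hdis, mem_bot] at h
  rw [mem_bot, ← hi, h, map_one]

/-! ### Identification -/

/-- The system of a perfect group is the one of every perfect model, in the cyclic case. -/
theorem realizedBy_of_cyclic {k : ℕ} {r e v w u' : ℤ} {a b : Ω} (D : DQ S k r e u' v w a b)
    (hS : IsPGroup 2 S) (hF : F.IsSaturated 2)
    {G : Type u} [Group G] [Finite G] {ι : S →* G} {hι : Function.Injective ι} {T : Sylow 2 G}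
    (hT : (T : Subgroup G) = ι.range) (hG : commutator G = ⊤) (hFG : F = pulled ι hι)
    {H : Type} [Group H] [Finite H] (hH : commutator H = ⊤) (U : Sylow 2 H)
    (f : S ≃* (U : Subgroup H)) :
    ∃ j : S →* H, F.IsRealizedBy j ∧ ∃ U : Sylow 2 H, (U : Subgroup H) = j.range := by
  have hU := model_range U f
  have hb : ∀ ε : ℤ, Bit F (cand k v w a b ε) := fun ε => by
    rw [hFG]
    exact D.bit_of_commutator hS hT (ε := ε)
      (x := ⟨a ^ ε * b, mul_mem (zpow_mem D.a_mem ε) D.b_mem⟩) rfl (by rw [hG]; exact mem_top _)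
  have hb' : ∀ ε : ℤ, Bit (pulled _ (model_injective U f)) (cand k v w a b ε) := fun ε =>
    D.bit_of_commutator hS hU (ε := ε)
      (x := ⟨a ^ ε * b, mul_mem (zpow_mem D.a_mem ε) D.b_mem⟩) rfl (by rw [hH]; exact mem_top _)
  refine ⟨_, ?_, U, hU⟩
  rw [D.eq_of_two_bits hS hF (pulled_saturated hS hU) (iff_of_true (hb 0) (hb' 0))
    (iff_of_true (hb 1) (hb' 1))]
  exact pulled_isRealizedBy _ _

/-- The system of a perfect group is the one of every perfect model, in the wreathed case. -/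
theorem realizedBy_of_wreathed {n : ℕ} {x y z : Ω} (W : Wr S n x y z)
    (hS : IsPGroup 2 S) (hF : F.IsSaturated 2)
    {G : Type u} [Group G] [Finite G] {ι : S →* G} {hι : Function.Injective ι} {T : Sylow 2 G}
    (hT : (T : Subgroup G) = ι.range) (hG : commutator G = ⊤) (hFG : F = pulled ι hι)
    {H : Type} [Group H] [Finite H] (hH : commutator H = ⊤) (U : Sylow 2 H)
    (f : S ≃* (U : Subgroup H)) :
    ∃ j : S →* H, F.IsRealizedBy j ∧ ∃ U : Sylow 2 H, (U : Subgroup H) = j.range := by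
  have hA : Bit F (baseW x y) := by
    rw [hFG]
    exact W.bit_base_of_commutator hS hT (g := ⟨x, W.x_mem⟩) (i := 1) (j := 0) (by simp) (by norm_num)
      (by rw [hG]; exact mem_top _)
  have hP : Bit F W.cand := by
    rw [hFG]
    exact W.bit_cand_of_commutator hS hT (g := ⟨z, W.z_mem⟩) W.z_notMem (by rw [hG]; exact mem_top _)
  obtain ⟨g, hg⟩ := W.eq_pulled_both hS hF hA hP hH U f
  exact ⟨_, by rw [hg]; exact pulled_isRealizedBy _ _, U, model_range U g⟩

end CfsgLib.RankTwoFusion
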