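import Cfsg.Agent.Lib.Fusion.System.Functor
import Cfsg.Agent.Lib.RankTwoFusion.Group

/-!
# Saturated fusion systems of rank two with trivial centre

Some automizer moves the central involution; this gives a fours group with a cycle, which extends to the centralizer
of a fully normalized conjugate.
-/

set_option autoImplicit false
set_option linter.style.haveILetI false

open Subgroup

namespace CfsgLib.RankTwoFusion

open Cfsg (FusionSystem autInducedBy)
open Cfsg.FusionSystem (centralizerIn normalizerIn)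
open CfsgLib.Fusion

variable {Ω : Type*} [Group Ω] {S : Subgroup Ω} [Finite S] {F : FusionSystem S}

theorem exists_moved (hS : IsPGroup 2 S) (hF : F.IsSaturated 2) (hZ : F.center = ⊥) {z : Ω} (hzS : z ∈ S)
    (hz1 : z ≠ 1) (hzc : ∀ s ∈ S, Commute z s) :
    ∃ P : Subgroup Ω, P ≤ S ∧ z ∈ P ∧ F.IsFullyNormalized P ∧ ∃ α ∈ F.autGroup P, autFun α z ≠ z := by
  haveI : Fact (Nat.Prime 2) := ⟨Nat.prime_two⟩
  set Q := zpowers z with hQdef
  have hQS : Q ≤ S := zpowers_le.2 hzS
  have hQc : Q ≤ Subgroup.centralizer (S : Set Ω) :=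
    zpowers_le.2 (mem_centralizer_iff.2 fun s hs => (hzc s hs).eq.symm)
  by_contra hno
  push Not at hno
  have hcen : F.IsCentral Q := by
    refine isCentral_of_fixed hS hF hQS fun R f hf x hx hxQ => ?_
    refine (isMap_fixSystem_iff.1 (isMap_of_autGroup_le (E := fixSystem F Q hQc) hS hF (fun P hP => ?_) hf)).2
      x hx (Or.inl hxQ)
    have hPn : F.IsFullyNormalized P := hP.elim (fun e => by subst e; exact isFullyNormalized_self) fun e => e.2.1
    have hPc : F.IsCentric P := hP.elim (fun e => e ▸ isCentric_self F) fun e => e.1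
    have hQP := le_of_isCentric_of_central hQS hQc hPc
    intro α hα
    refine (mem_autGroup_iff hPn.1).2 (isMap_fixSystem_iff.2 ⟨(mem_autGroup_iff hPn.1).1 hα, ?_⟩)
    refine fixOn_of_le ((mem_autGroup_iff hPn.1).1 hα) hQP fun y hy => ?_
    have hzP : z ∈ P := hQP (mem_zpowers z)
    obtain ⟨i, rfl⟩ := mem_zpowers_iff.1 hy
    rw [show autFun α (z ^ i) = autFun α z ^ i by
      rw [autFun_apply α hzP, autFun_apply α (zpow_mem hzP i), ← Subgroup.coe_zpow, ← map_zpow]; rfl,
      hno P hPn.1 hzP hPn α hα]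
  have : Q ≤ F.center := le_sSup hcen
  rw [hZ, le_bot_iff, hQdef, zpowers_eq_bot] at this
  exact hz1 this

/-- Two commuting distinct involutions and every third one in a group of two-rank two. -/
theorem four_of_rank (hS : IsPGroup 2 S) (hr : ¬ Cfsg.PRankAtLeast 2 3 S) {a b c : Ω} (haS : a ∈ S) (hbS : b ∈ S)
    (hcS : c ∈ S) (ha : a ^ 2 = 1) (hb : b ^ 2 = 1) (hc : c ^ 2 = 1) (hab : Commute a b) (hac : Commute a c)
    (hbc : Commute b c) (ha1 : a ≠ 1) (hb1 : b ≠ 1) (hne : b ≠ a) :
    c = 1 ∨ c = a ∨ c = b ∨ c = a * b := by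
  by_contra hn
  simp only [not_or] at hn
  set A : Subgroup S := closure {⟨a, haS⟩, ⟨b, hbS⟩, ⟨c, hcS⟩} with hA
  have hcomm : IsMulCommutative A := by
    refine Subgroup.isMulCommutative_closure ?_
    rintro x (rfl | rfl | rfl) y (rfl | rfl | rfl) <;> apply Subtype.ext <;>
      first | rfl | exact hab.eq | exact hab.eq.symm | exact hac.eq | exact hac.eq.symm | exact hbc.eq | exact hbc.eq.symm
  have hsq : ∀ x ∈ A, x ^ 2 = 1 := by
    intro x hx
    induction hx using Subgroup.closure_induction with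
    | mem y hy =>
      rcases hy with rfl | rfl | rfl
      · exact Subtype.ext ha
      · exact Subtype.ext hb
      · exact Subtype.ext hc
    | one => exact one_pow 2
    | mul u v hu hv h1 h2 =>
      rw [(show Commute u v from congrArg Subtype.val (hcomm.is_comm.comm ⟨u, hu⟩ ⟨v, hv⟩)).mul_pow, h1, h2,
        one_mul]
    | inv u _ h1 => rw [inv_pow, h1, inv_one]
  apply hr
  refine ⟨A, hcomm, hsq, ?_⟩
  have hmem : ∀ x ∈ ({⟨a, haS⟩, ⟨b, hbS⟩, ⟨c, hcS⟩} : Set S), x ∈ A := fun x hx => subset_closure hx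
  have haA := hmem ⟨a, haS⟩ (by simp)
  have hbA := hmem ⟨b, hbS⟩ (by simp)
  have hcA := hmem ⟨c, hcS⟩ (by simp)
  have hab1 : a * b ≠ 1 := fun h => hne (mul_left_cancel (h.trans (by rw [← pow_two, ha]) : a * b = a * a))
  have hsub : ({1, ⟨a, haS⟩, ⟨b, hbS⟩, ⟨a, haS⟩ * ⟨b, hbS⟩, ⟨c, hcS⟩} : Set S) ⊆ A := by
    rintro x (rfl | rfl | rfl | rfl | rfl)
    exacts [one_mem A, haA, hbA, mul_mem haA hbA, hcA]
  have h5 : 5 ≤ Nat.card A := by
    have h := Set.ncard_le_ncard hsub (Set.toFinite _)
    rw [Set.ncard_insert_of_notMem (by simp [Subtype.ext_iff, Ne.symm ha1, Ne.symm hb1, Ne.symm hab1, Ne.symm hn.1]),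
      Set.ncard_insert_of_notMem (by simp [Subtype.ext_iff, Ne.symm hne, Ne.symm hn.2.1, hb1]),
      Set.ncard_insert_of_notMem (by simp [Subtype.ext_iff, Ne.symm hn.2.2.1, ha1]),
      Set.ncard_pair (by simp [Subtype.ext_iff, Ne.symm hn.2.2.2]), ← Nat.card_coe_set_eq] at h
    exact h
  obtain ⟨d, hd⟩ := (hS.to_subgroup A).exists_card_eq
  rw [hd] at h5 ⊢
  refine Nat.pow_le_pow_right two_pos ?_
  by_contra h3
  have := Nat.pow_le_pow_right (show 2 > 0 by norm_num) (show d ≤ 2 by omega)
  omega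

/-- Some automorphism cycles three points when a subgroup of odd index fixes one of them and some element moves it. -/
theorem exists_cycle {X : Type*} [Group X] [Finite X] {M : Type*} [Group M] (act : X →* MulAut M) (R : Subgroup X)
    (hR : ¬ 2 ∣ R.index) {z u : M} (hzu : Commute z u) (hz : z ^ 2 = 1) (hu : u ^ 2 = 1) (hz1 : z ≠ 1)
    (hu1 : u ≠ 1) (hne : u ≠ z) (hinv : ∀ g : X, act g z = z ∨ act g z = u ∨ act g z = z * u)
    (hinv' : ∀ g : X, act g u = z ∨ act g u = u ∨ act g u = z * u)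
    (hfix : ∀ r ∈ R, act r z = z) {g₀ : X} (hg₀ : act g₀ z = u) :
    ∃ g : X, act g z = u ∧ act g u = z * u := by
  classical
  have hz2 : z * z = 1 := by rw [← pow_two, hz]
  have hu2 : u * u = 1 := by rw [← pow_two, hu]
  have hw1 : z * u ≠ z := fun h => hu1 (mul_eq_left.1 h)
  have hw2 : z * u ≠ u := fun h => hz1 (mul_eq_right.1 h)
  have hinj : ∀ g : X, Function.Injective (act g) := fun g => (act g).injective
  by_cases h : act g₀ u = z * u
  · exact ⟨g₀, hg₀, h⟩
  have hg₀u : act g₀ u = z := by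
    rcases hinv' g₀ with e | e | e
    · exact e
    · exact absurd (hinj g₀ (hg₀.trans e.symm)) hne.symm
    · exact absurd e h
  have hg₀w : act g₀ (z * u) = z * u := by rw [map_mul, hg₀, hg₀u, hzu.eq]
  obtain ⟨g₂, hg₂⟩ : ∃ g₂ : X, act g₂ z = z * u := by
    by_contra hno
    push Not at hno
    set St : Subgroup X :=
      { carrier := {g | act g z = z}
        one_mem' := by show act 1 z = z; rw [map_one, MulAut.one_apply]
        mul_mem' := fun {g h} (hg : act g z = z) (hh : act h z = z) => by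
          show act (g * h) z = z
          rw [map_mul, MulAut.mul_apply, hh, hg]
        inv_mem' := fun {g} (hg : act g z = z) => by
          show act g⁻¹ z = z
          conv_lhs => rw [← hg]
          rw [← MulAut.mul_apply, ← map_mul, inv_mul_cancel, map_one, MulAut.one_apply] } with hSt
    have hmem : ∀ g, g ∈ St ↔ act g z = z := fun g => Iff.rfl
    have hidx : St.index = 2 := by
      rw [Subgroup.index_eq_two_iff]
      refine ⟨g₀, fun b => ?_⟩
      simp only [hmem, map_mul, MulAut.mul_apply, hg₀]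
      rcases hinv b with e | e | e
      · exact Or.inr ⟨e, fun e' => hne (hinj b (e'.trans e.symm))⟩
      · refine Or.inl ⟨?_, fun e' => hne (e.symm.trans e')⟩
        rcases hinv' b with f | f | f
        · exact f
        · exact absurd (hinj b (f.trans e.symm)) hne
        · exact absurd (show act (b * g₀) z = z * u by rw [map_mul, MulAut.mul_apply, hg₀, f]) (hno _)
      · exact absurd e (hno b)
    exact hR (hidx ▸ Subgroup.index_dvd_of_le (fun r hr => hfix r hr))
  rcases hinv' g₂ with e | e | e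
  · -- `z ↦ zu`, `u ↦ z`: the inverse cycle
    refine ⟨g₂ * g₂, ?_, ?_⟩
    · rw [map_mul, MulAut.mul_apply, hg₂, map_mul, hg₂, e, hzu.eq, mul_assoc, hz2, mul_one]
    · rw [map_mul, MulAut.mul_apply, e, hg₂]
  · refine ⟨g₂ * g₀, ?_, ?_⟩
    · rw [map_mul, MulAut.mul_apply, hg₀, e]
    · rw [map_mul, MulAut.mul_apply, hg₀u, hg₂]
  · exact absurd (hinj g₂ (hg₂.trans e.symm)) hne.symm

end CfsgLib.RankTwoFusion
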